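import Cfsg.Agent.Omega.FOne.ActR.NatEnd
import Cfsg.Agent.Omega.FOne.ActR.Sym
import Cfsg.Agent.Omega.FFBr.Def

/-!
# (F1), the minimal parabolic case, abstract form over `p : W → M`

`X` acts on the elementary abelian 2-groups `W` and `M`, `p : W → M` is onto and equivariant, `X` is trivial on `ker p`,
`C_W(T) ≤ ker p`.  An exact atom `B ≤ T` of order `≥ 4`: then `T` is in at least two maximal subgroups of `X`.
-/

set_option autoImplicit false
set_option linter.unusedSectionVars false

namespace Cfsg.Agent.Omega.FOne.ActR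

open Subgroup
open Cfsg.Agent.Lib.SL2Mat Cfsg.Agent.Omega.NatPair Cfsg.Agent.Omega.FFBr
open Cfsg.Agent.Omega.FOne.Tvw (addself z2 ap_inv inv_ap)
open Cfsg.Agent.ClassTwoFusion.Quad (cv mem_cv)

universe u

/-- an elementary abelian 2-group as an `𝔽₂`-space -/
@[reducible] def modOf {W : Type*} [CommGroup W] (sq : ∀ w : W, w * w = 1) : Module (ZMod 2) (Additive W) :=
  AddCommGroup.zmodModule (n := 2) fun x => by
    rw [two_smul]
    exact congrArg Additive.ofMul (sq (Additive.toMul x))

section phi

variable {X W : Type*} [Group X] [CommGroup W] [MulDistribMulAction X W] [Module (ZMod 2) (Additive W)]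

/-- `X → GL(W)` -/
def phi (X W : Type*) [Group X] [CommGroup W] [MulDistribMulAction X W] [Module (ZMod 2) (Additive W)] :
    X →* (Additive W ≃ₗ[ZMod 2] Additive W) where
  toFun x :=
    { toFun := fun w => Additive.ofMul (x • Additive.toMul w)
      map_add' := fun a b => congrArg Additive.ofMul (smul_mul' x (Additive.toMul a) (Additive.toMul b))
      map_smul' := by
        intro c w
        rcases z2 c with rfl | rfl
        · rw [zero_smul, RingHom.id_apply, zero_smul]
          exact congrArg Additive.ofMul (smul_one x)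
        · rw [one_smul]
          change _ = (1 : ZMod 2) • _
          rw [one_smul]
      invFun := fun w => Additive.ofMul (x⁻¹ • Additive.toMul w)
      left_inv := fun w => congrArg Additive.ofMul (inv_smul_smul x (Additive.toMul w))
      right_inv := fun w => congrArg Additive.ofMul (smul_inv_smul x (Additive.toMul w)) }
  map_one' := by
    ext w
    exact congrArg Additive.ofMul (one_smul X (Additive.toMul w))
  map_mul' a b := by
    ext w
    exact congrArg Additive.ofMul (mul_smul a b (Additive.toMul w))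

theorem phi_apply (x : X) (w : W) : phi X W x (Additive.ofMul w) = Additive.ofMul (x • w) := rfl

end phi

/-- The abstract situation. -/
structure Sit {X M W : Type*} [Group X] [CommGroup M] [MulDistribMulAction X M] [CommGroup W] [MulDistribMulAction X W]
    (T B : Subgroup X) (p : W →* M) : Prop where
  sq : ∀ w : W, w * w = 1
  eqv : ∀ (x : X) (w : W), p (x • w) = x • p w
  surj : Function.Surjective p
  ker : ∀ w : W, p w = 1 → ∀ x : X, x • w = w
  faith : ∀ x : X, (∀ m : M, x • m = m) → x = 1
  core : ∀ N : Subgroup X, N.Normal → IsPGroup 2 N → N = ⊥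
  two : IsPGroup 2 T
  syl : ¬ 2 ∣ T.index
  fixT : ∀ w : W, (∀ t ∈ T, t • w = w) → p w = 1
  gen : ∀ U : Subgroup M, (∀ m : M, (∀ t ∈ T, t • m = m) → ∀ x : X, x • m ∈ U) → U = ⊤
  BT : B ≤ T
  el : ∀ b ∈ B, b * b = 1
  four : 4 ≤ Nat.card B
  exact : (cv M (B : Set X)).index = Nat.card B
  atom : ∀ C : Subgroup X, C ≤ B → C ≠ ⊥ → C ≠ B → Nat.card C < (cv M (C : Set X)).index

namespace Sit

section

variable {X M W : Type*} [Group X] [CommGroup M] [MulDistribMulAction X M] [CommGroup W] [MulDistribMulAction X W]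
  [Module (ZMod 2) (Additive W)] {T B : Subgroup X} {p : W →* M}

/-- `ker p` -/
def Rk (p : W →* M) : AddSubgroup (Additive W) := Subgroup.toAddSubgroup p.ker

theorem mem_Rk {w : W} : Additive.ofMul w ∈ Rk p ↔ p w = 1 := Iff.rfl

variable (h : Sit T B p)
include h

theorem inj : Function.Injective (phi X W) := by
  rw [injective_iff_map_eq_one]
  intro x hx
  refine h.faith x fun m => ?_
  obtain ⟨w, rfl⟩ := h.surj m
  rw [← h.eqv]
  congr 1
  have := congrArg (fun g : Additive W ≃ₗ[ZMod 2] Additive W => g (Additive.ofMul w)) hx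
  exact congrArg Additive.toMul this

/-- equality of images in `M` -/
theorem p_eq {a b : W} : p a = p b ↔ Additive.ofMul a + Additive.ofMul b ∈ Rk p := by
  rw [← ofMul_mul, mem_Rk, map_mul]
  have h1 : p b * p b = 1 := by rw [← map_mul, h.sq, map_one]
  constructor
  · intro h2; rw [h2, h1]
  · intro h2
    exact mul_right_cancel (h2.trans h1.symm)

theorem baseR : BaseR (phi X W).range (Rk p) where
  fix := by
    rintro _ ⟨x, rfl⟩ r hr
    exact congrArg Additive.ofMul (h.ker (Additive.toMul r) hr x)
  faith := by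
    rintro _ ⟨x, rfl⟩ hx
    have h1 : x = 1 := h.faith x fun m => by
      obtain ⟨w, rfl⟩ := h.surj m
      rw [← h.eqv, h.p_eq]
      exact hx (Additive.ofMul w)
    rw [h1, map_one]
  core := by
    intro N hN hn h2
    have h1 := h.core (N.comap (phi X W)) ⟨fun n hnn g => by
      rw [mem_comap, map_mul, map_mul, map_inv]
      exact hn _ ⟨g, rfl⟩ _ hnn⟩ (h2.comap_of_injective _ h.inj)
    rw [eq_bot_iff]
    intro g hg
    obtain ⟨x, rfl⟩ := hN hg
    have h3 : x ∈ N.comap (phi X W) := hg
    rw [h1, mem_bot] at h3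
    rw [h3, map_one]
    exact one_mem _

/-- a functional of `M` as a functional of `W` -/
def pull {E : Type*} [AddCommGroup E] (p : W →* M) (e : M → E) (he : ∀ v w, e (v * w) = e v + e w) :
    Additive W →+ E :=
  AddMonoidHom.mk' (fun w => e (p (Additive.toMul w))) fun a b => by rw [toMul_add, map_mul, he]

omit h in
theorem kinv_odd (g : X) {v : M} (hv : v ∈ odd X M) : g • v ∈ odd X M := by
  intro x hx
  have h1 : (g⁻¹ * x * g) • v = v := hv _ (by
    have : orderOf (g⁻¹ * x * g) = orderOf x := by
      have e1 : (MulAut.conj g⁻¹) x = g⁻¹ * x * g := by simp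
      rw [← e1]
      exact MulEquiv.orderOf_eq _ x
    rw [this]; exact hx)
  have h2 := congrArg (fun z => g • z) h1
  simp only [smul_smul] at h2
  rw [smul_smul]
  have e2 : g * (g⁻¹ * x * g) = x * g := by group
  rw [e2] at h2
  exact h2

theorem ek_pull {E : Type*} [AddCommGroup E] {e : M → E} (he : ∀ v w, e (v * w) = e v + e w)
    (hker : ∀ v, e v = 0 ↔ v ∈ odd X M) : Ek (phi X W).range (Rk p) (pull p e he) where
  base := h.baseR
  eR := by
    intro r hr
    change e (p (Additive.toMul r)) = 0
    have h1 : p (Additive.toMul r) = 1 := hr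
    rw [h1, hker]
    exact (odd X M).one_mem
  kinv := by
    rintro _ ⟨x, rfl⟩ w hw
    change e (p (x • Additive.toMul w)) = 0
    change e (p (Additive.toMul w)) = 0 at hw
    rw [hker] at hw ⊢
    rw [h.eqv]
    exact kinv_odd x hw

theorem tr_of {E : Type*} [AddCommGroup E] {e : M → E} (he : ∀ v w, e (v * w) = e v + e w)
    (hker : ∀ v, e v = 0 ↔ v ∈ odd X M) {g : X} (hg : ∀ d ∈ odd X M, g • d = d) {w : Additive W}
    (hw : pull p e he w = 0) : phi X W g w + w ∈ Rk p := by
  have h1 := hg (p (Additive.toMul w)) ((hker _).1 hw)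
  rw [← h.eqv, h.p_eq] at h1
  exact h1

/-- the natural case -/
theorem natW_of {F : Type} [Field F] {k : ℕ} (n : AbsNat F T M k) :
    NatW (phi X W).range (Rk p) (T.map (phi X W)) (pull p n.e n.mul) where
  toEk := h.ek_pull n.mul n.ker
  TH := by
    rintro _ ⟨t, -, rfl⟩
    exact ⟨t, rfl⟩
  surj := by
    intro x
    obtain ⟨v, hv⟩ := n.surj x
    obtain ⟨w, rfl⟩ := h.surj v
    exact ⟨Additive.ofMul w, hv⟩
  lift := by
    intro A
    obtain ⟨g, h1, h2⟩ := n.lift A
    refine ⟨phi X W g, ⟨g, rfl⟩, fun w i => ?_, fun w hw => h.tr_of n.mul n.ker h2 hw⟩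
    have := h1 (p (Additive.toMul w)) i
    rw [← h.eqv] at this
    exact this
  norm := by
    rintro _ ⟨g, rfl⟩ _ ⟨x, rfl⟩ A hA'
    obtain ⟨B, hB⟩ := n.norm g x A (fun v i => by
      obtain ⟨w, rfl⟩ := h.surj v
      rw [← h.eqv]
      exact hA' (Additive.ofMul w) i)
    refine ⟨B, fun w i => ?_⟩
    rw [← map_mul, ← map_inv, ← map_mul]
    have := hB (p (Additive.toMul w)) i
    rw [← h.eqv] at this
    exact this
  line := by
    rintro _ ⟨t, ht, rfl⟩
    obtain ⟨σ, hσ⟩ := n.line t ht
    refine ⟨σ, fun w i => ?_⟩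
    have := hσ (p (Additive.toMul w)) i
    rw [← h.eqv] at this
    exact this
  unip := by
    intro b'
    obtain ⟨t, ht, h1, h2⟩ := n.unip b'
    refine ⟨phi X W t, ⟨t, ht, rfl⟩, fun w i => ?_, fun w hw => h.tr_of n.mul n.ker h2 hw⟩
    have := h1 (p (Additive.toMul w)) i
    rw [← h.eqv] at this
    exact this

/-- the symmetric case -/
theorem symW_of {k m : ℕ} (n : AbsSym T M k m) : SymW (phi X W).range (Rk p) (pull p n.e n.mul) where
  toEk := h.ek_pull n.mul n.ker
  even := fun w i => n.even (p (Additive.toMul w)) i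
  surj := by
    intro z hz
    obtain ⟨v, hv⟩ := n.surj z hz
    obtain ⟨w, rfl⟩ := h.surj v
    exact ⟨Additive.ofMul w, hv⟩
  lift := by
    intro τ
    obtain ⟨g, h1, h2⟩ := n.lift τ
    refine ⟨phi X W g, ⟨g, rfl⟩, fun w i x => ?_, fun w hw => h.tr_of n.mul n.ker h2 hw⟩
    have := h1 (p (Additive.toMul w)) i x
    rw [← h.eqv] at this
    exact this

/-- exactness -/
theorem index_cv [Finite W] {C : Subgroup X} (hC : MExR (Rk p) (C.map (phi X W))) :
    (cv M (C : Set X)).index = Nat.card C := by
  classical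
  have h1 := Subgroup.index_comap_of_surjective (cv M (C : Set X)) h.surj
  rw [← h1]
  have h2 : Nat.card ((cv M (C : Set X)).comap p) = Nat.card (cmR (Rk p) (C.map (phi X W))) := by
    refine Nat.card_congr (Equiv.subtypeEquiv Additive.ofMul fun w => ?_)
    rw [mem_comap, mem_cv]
    constructor
    · rintro h3 _ ⟨b, hb, rfl⟩
      have h4 := h3 b hb
      rw [← h.eqv, h.p_eq] at h4
      exact h4
    · intro h3 a ha
      rw [← h.eqv, h.p_eq]
      exact h3 _ ⟨a, ha, rfl⟩
  have h3 : Nat.card ((cv M (C : Set X)).comap p) * ((cv M (C : Set X)).comap p).index = Nat.card W :=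
    ((cv M (C : Set X)).comap p).card_mul_index
  rw [h2] at h3
  unfold MExR at hC
  have hpos : 0 < Nat.card (cmR (Rk p) (C.map (phi X W))) := by
    have : Finite (Additive W) := inferInstanceAs (Finite W)
    have : Nonempty (cmR (Rk p) (C.map (phi X W))) := ⟨⟨0, fun b _ => by
      rw [map_zero, add_zero]; exact (Rk p).zero_mem⟩⟩
    exact Nat.card_pos
  have h4 : Nat.card (C.map (phi X W)) = Nat.card C :=
    (Nat.card_congr (C.equivMapOfInjective _ h.inj).toEquiv).symm
  have h5 : Nat.card (Additive W) = Nat.card W := rfl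
  rw [h5, ← h3, h4, mul_comm] at hC
  exact (Nat.eq_of_mul_eq_mul_left hpos hC).symm

theorem Bne : B ≠ ⊥ := by
  intro hb
  have := h.four
  rw [hb, Subgroup.card_bot] at this
  omega

end

section

variable {X M : Type u} {W : Type*} [Group X] [Finite X] [CommGroup M] [Finite M] [MulDistribMulAction X M] [CommGroup W]
  [Finite W] [MulDistribMulAction X W] {T B : Subgroup X} {p : W →* M}

/-- **nmax**, from the FF theorem -/
theorem nmax_of (hFF : AStmt.{u}) (h : Sit T B p) :
    ¬ ∃ N : Subgroup X, N ≠ ⊤ ∧ ∀ R : Subgroup X, T ≤ R → R ≠ ⊤ → R ≤ N := by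
  classical
  rintro ⟨N, hN, hmax⟩
  let _ := modOf h.sq
  have hXne : ¬ ∀ x : X, x = 1 := fun hx => h.Bne (by
    rw [eq_bot_iff]; exact fun b _ => mem_bot.2 (hx b))
  have hTne : T ≠ ⊤ := by
    intro hT
    have h1 := h.core T (by rw [hT]; infer_instance) h.two
    exact h.Bne (by rw [eq_bot_iff, ← h1]; exact h.BT)
  have hTN : T ≤ N := hmax T le_rfl hTne
  let S : Sylow 2 X := h.two.toSylow h.syl
  have abs : Abs X M S N :=
    { comm := fun v w => mul_comm v w
      sq := by
        intro v
        obtain ⟨w, rfl⟩ := h.surj v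
        rw [← map_mul, h.sq, map_one]
      faith := h.faith
      core := h.core
      TM := hTN
      Mne := hN
      max := by
        intro K hK
        by_cases hKt : K = ⊤
        · exact Or.inr hKt
        · exact Or.inl (hmax K hK hKt)
      gen := fun U hU => h.gen U fun m hm x => hU m hm x
      nfix := by
        by_contra hcon
        push Not at hcon
        apply hXne
        intro x
        refine h.faith x fun m => ?_
        let U : Subgroup M :=
          { carrier := {m | ∀ x : X, x • m = m}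
            one_mem' := fun x => smul_one x
            mul_mem' := fun {a b} ha hb x => by rw [smul_mul', ha x, hb x]
            inv_mem' := fun {a} ha x => by rw [smul_inv', ha x] }
        have hU := h.gen U fun m hm x z => by
          rw [hcon m hm x, hcon m hm z]
        have h1 : m ∈ U := by rw [hU]; exact mem_top _
        exact h1 x }
  have hoff : AOff M B :=
    { comm := by
        intro a ha b hb
        have h1 := h.el _ (B.mul_mem ha hb)
        have h2 : (a * b)⁻¹ = a * b := inv_eq_of_mul_eq_one_left h1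
        rw [← h2, mul_inv_rev, inv_eq_of_mul_eq_one_left (h.el a ha), inv_eq_of_mul_eq_one_left (h.el b hb)]
      sq := h.el
      ne := h.Bne
      le := h.exact.le }
  obtain ⟨-, hC⟩ := hFF X M S N abs ⟨_, hoff⟩
  have hS : (S : Subgroup X) = T := rfl
  rw [hS] at hC
  have hfinW : Finite (Additive W) := inferInstanceAs (Finite W)
  rcases hC with ⟨F, iF, fF, cF, k, hk, ⟨n⟩⟩ | ⟨k, m, hk, hm, ⟨n⟩⟩
  · have h1 := h.natW_of n
    have htwo : IsPGroup 2 (T.map (phi X W)) := h.two.map _
    have hsyl : ¬ 2 ∣ (T.map (phi X W)).relIndex (phi X W).range := by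
      rw [MonoidHom.range_eq_map, Subgroup.relIndex_map_map_of_injective _ _ h.inj, relIndex_top_right]
      exact h.syl
    have hfix : ∀ w : Additive W, (∀ t ∈ T.map (phi X W), t w = w) → w ∈ Rk p := by
      intro w hw
      exact h.fixT (Additive.toMul w) fun t ht => congrArg Additive.toMul (hw _ ⟨t, ht, rfl⟩)
    have hgen : ∀ U : Submodule (ZMod 2) (Additive W), (∀ r ∈ Rk p, r ∈ U) →
        (∀ w, (∀ t ∈ T.map (phi X W), t w + w ∈ Rk p) → ∀ x ∈ (phi X W).range, x w ∈ U) → U = ⊤ := by
      intro U hU1 hU2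
      let U' : Subgroup M := (AddSubgroup.toSubgroup' U.toAddSubgroup).map p
      have h2 := h.gen U' fun m hm x => by
        obtain ⟨w, rfl⟩ := h.surj m
        refine ⟨x • w, ?_, h.eqv x w⟩
        exact hU2 (Additive.ofMul w) (by
          rintro _ ⟨t, ht, rfl⟩
          have h3 := hm t ht
          rw [← h.eqv, h.p_eq] at h3
          exact h3) _ ⟨x, rfl⟩
      rw [eq_top_iff]
      intro w _
      have h3 : p (Additive.toMul w) ∈ U' := by rw [h2]; exact mem_top _
      obtain ⟨w', hw', hp⟩ := h3
      have h4 : Additive.ofMul w' + w ∈ Rk p := h.p_eq.1 hp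
      have h5 : Additive.ofMul w' ∈ U := hw'
      have h6 := U.add_mem h5 (hU1 _ h4)
      have h7 : Additive.ofMul w' + (Additive.ofMul w' + w) = w := by
        rw [← add_assoc, addself, zero_add]
      rwa [h7] at h6
    by_cases hν : ∃ ν : F, ν ≠ 0 ∧ ν ≠ 1
    · let _ := Fintype.ofFinite F
      exact h1.false_big hν hk htwo hsyl hfix hgen
    · push Not at hν
      exact h1.false_two (fun x => by
        by_cases hx : x = 0
        · exact Or.inl hx
        · exact Or.inr (hν x hx)) hk htwo hfix
  · have h1 := h.symW_of n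
    obtain ⟨h2, h3⟩ := n.off B h.BT hoff
    obtain ⟨a, ha, ha1⟩ : ∃ a ∈ B, a ≠ 1 := by
      by_contra hcon
      push Not at hcon
      exact h.Bne (by rw [eq_bot_iff]; exact fun x hx => mem_bot.2 (hcon x hx))
    obtain ⟨τ, hτ, hτ2⟩ := h3 a ha
    obtain ⟨i, x, hx⟩ : ∃ i x, τ i x ≠ x := by
      by_contra hcon
      push Not at hcon
      apply ha1
      apply h.inj
      rw [map_one]
      refine h1.toEk.uniq ⟨a, rfl⟩ (fun w => ?_) fun w hw => h.tr_of n.mul n.ker (h2 a ha) hw
      funext i x
      have h5 := hτ (p (Additive.toMul w)) i x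
      rw [← h.eqv, hcon i x] at h5
      exact h5
    obtain ⟨-, b, hb, hb2⟩ := hτ2 i x hx
    have hbe : phi X W b = h1.tr i x (τ i x) := by
      refine h1.eq_L ⟨b, rfl⟩ (fun w j z => ?_) fun w hw => h.tr_of n.mul n.ker (h2 b hb) hw
      have h5 := hb2 (p (Additive.toMul w)) j z
      rw [← h.eqv] at h5
      exact h5
    have hn : 5 ≤ 2 ^ m + 1 := by
      have : 2 ^ 2 ≤ 2 ^ m := Nat.pow_le_pow_right (by norm_num) hm
      omega
    obtain ⟨h6, h7⟩ := h1.ex_tr hn i (Ne.symm hx)
    rw [← hbe, ← MonoidHom.map_zpowers] at h6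
    rw [← hbe] at h7
    have h8 : zpowers b ≤ B := zpowers_le.2 hb
    have h9 := h.index_cv h6
    have h10 : Nat.card (zpowers b) ≤ 2 := by
      rw [Nat.card_zpowers]
      refine Nat.le_of_dvd (by norm_num) (orderOf_dvd_of_pow_eq_one ?_)
      rw [pow_two]; exact h.el _ hb
    have h11 := h.atom _ h8 (by
      intro h12
      apply h7
      rw [zpowers_eq_bot.1 h12, map_one]) (by
        intro h12
        have := h.four
        rw [← h12] at this
        omega)
    rw [h9] at h11
    exact lt_irrefl _ h11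

end

end Sit

end Cfsg.Agent.Omega.FOne.ActR
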