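import Cfsg.Agent.Omega.FOne.ActR.Abs
import Cfsg.Agent.Omega.FF.GlobEnd

/-!
# (F1), the minimal parabolic case, closed form

`Sit.nmax` : an exact atom `B ≤ T` of order `≥ 4`, `C_W(T) ≤ ker p` : `T` is in at least two maximal subgroups of `X`.
-/

set_option autoImplicit false

namespace Cfsg.Agent.Omega.FOne.ActR

universe u

/-- **nmax** -/
theorem Sit.nmax {X M : Type u} {W : Type*} [Group X] [Finite X] [CommGroup M] [Finite M] [MulDistribMulAction X M]
    [CommGroup W] [Finite W] [MulDistribMulAction X W] {T B : Subgroup X} {p : W →* M} (h : Sit T B p) :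
    ¬ ∃ N : Subgroup X, N ≠ ⊤ ∧ ∀ R : Subgroup X, T ≤ R → R ≠ ⊤ → R ≤ N :=
  Sit.nmax_of FF.Glob.aStmt h

/-- generation by one vector -/
theorem gen_of {X M : Type*} [Group X] [CommGroup M] [MulDistribMulAction X M] {T : Subgroup X} {m₀ : M}
    (h0 : ∀ t ∈ T, t • m₀ = m₀)
    (gen : ∀ U : Subgroup M, (∀ x : X, ∀ u ∈ U, x • u ∈ U) → m₀ ∈ U → U = ⊤) (U : Subgroup M)
    (hU : ∀ m : M, (∀ t ∈ T, t • m = m) → ∀ x : X, x • m ∈ U) : U = ⊤ := by
  -- the largest invariant subgroup of `U`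
  let U' : Subgroup M :=
    { carrier := {m | ∀ x : X, x • m ∈ U}
      one_mem' := fun x => by rw [smul_one]; exact U.one_mem
      mul_mem' := fun {a b} ha hb x => by rw [smul_mul']; exact U.mul_mem (ha x) (hb x)
      inv_mem' := fun {a} ha x => by rw [smul_inv']; exact U.inv_mem (ha x) }
  have h1 := gen U' (fun x u hu z => by
    have := hu (z * x)
    rwa [mul_smul] at this) fun x => hU m₀ h0 x
  rw [eq_top_iff]
  intro m _
  have h2 : m ∈ U' := by rw [h1]; exact Subgroup.mem_top _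
  have h3 := h2 1
  rwa [one_smul] at h3

end Cfsg.Agent.Omega.FOne.ActR
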