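import Cfsg.Agent.Omega.FOne.ActR.Nat
import Cfsg.Agent.Omega.FOne.Act.NatTwo

/-!
# (F1'), the minimal parabolic case: the natural case is impossible
-/

set_option autoImplicit false
set_option linter.unusedSectionVars false

namespace Cfsg.Agent.Omega.FOne.ActR

open Subgroup
open Cfsg.Agent.Lib.SL2Mat Cfsg.Agent.Omega.NatPair
open Cfsg.Agent.Omega.FOne.Tvw (Base addself z2 eq_of_add_eq_zero' ap_inv inv_ap)
open Cfsg.Agent.Omega.FOne.AT

open Cfsg.Agent.Omega.FOne.Act (not_dvd_inf normalizer_of eq_up c3 cube_mem cube_of_mem ent_c3)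

variable {W : Type*} [AddCommGroup W] [Module (ZMod 2) W] {F : Type*} [Field F] {k : ℕ}

namespace NatW

variable {H : Subgroup (W ≃ₗ[ZMod 2] W)} {R : AddSubgroup W} {T : Subgroup (W ≃ₗ[ZMod 2] W)} {e : W →+ (Fin k → Fin 2 → F)}
variable (h : NatW H R T e)
include h

/-- `|F| > 2` : a vector which is `T`-fixed modulo `R` is in the kernel of `e` -/
theorem e_zero [Finite W] [Fintype F] [DecidableEq F] [CharP F 2] (hν : ∃ ν : F, ν ≠ 0 ∧ ν ≠ 1)
    (two : IsPGroup 2 T) (syl : ¬ 2 ∣ T.relIndex H) (fix : ∀ w, (∀ t ∈ T, t w = w) → w ∈ R) {θ : W}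
    (Tθ : ∀ t ∈ T, t θ + θ ∈ R) : e θ = 0 := by
  classical
  have hfin : Finite (W ≃ₗ[ZMod 2] W) := DFunLike.finite _
  set K : Subgroup (W ≃ₗ[ZMod 2] W) := h.L.range with hKd
  have hKH : K ≤ H := by
    rintro _ ⟨A, rfl⟩
    exact h.L_mem A
  have hKn : ∀ g ∈ H, ∀ x ∈ K, g * x * g⁻¹ ∈ K := by
    rintro g hg _ ⟨A, rfl⟩
    obtain ⟨B, hB⟩ := h.conj_L hg A
    exact ⟨B, hB.symm⟩
  have hodd := not_dvd_inf h.TH syl hKH (normalizer_of hKn)
  have eT : ∀ t ∈ T, e (t θ) = e θ := fun t ht => by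
    have h1 := h.toEk.e_R (Tθ t ht)
    rw [map_add] at h1
    funext i x
    have h2 := congrFun (congrFun h1 i) x
    exact CharTwo.add_eq_zero.1 h2
  -- `θ` is on the lines
  have hθ1 : ∀ i, e θ i 1 = 0 := by
    intro i
    obtain ⟨t, ht, h1, -⟩ := h.unip fun _ => 1
    have h2 := h1 θ i
    rw [eT t ht] at h2
    have h3 := congrFun h2 0
    rw [ap_zero', up_00, up_01] at h3
    linear_combination -h3
  -- the upper unitriangular elements fix `θ`
  have hU : ∀ b : Fin k → F, h.L (fun i => up (b i)) θ = θ := by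
    intro b
    let S : Subgroup (Fin k → Matrix.SpecialLinearGroup (Fin 2) F) :=
      (MulAction.stabilizer (W ≃ₗ[ZMod 2] W) θ).comap h.L
    have hS : ∀ A, A ∈ S ↔ h.L A θ = θ := fun A => Iff.rfl
    rw [← hS]
    refine Subgroup.pi_mem_of_mulSingle_mem _ fun i => ?_
    rw [hS]
    have h1 := (h.sl hν i).up_ap hν (b i) θ
    change h.L (Pi.mulSingle i (up (b i))) θ = _ at h1
    rw [h1]
    have e1 : ((Pi.evalAddMonoidHom (fun _ : Fin k => Fin 2 → F) i).comp e) θ 1 = 0 := hθ1 i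
    rw [e1]
    have e2 : (![b i * 0, 0] : Fin 2 → F) = 0 := by
      apply ext2
      · simp
      · simp
    rw [e2, map_zero, add_zero]
    have e3 : b i * (0 : F) ^ 2 = 0 := by ring
    rw [e3, map_zero, add_zero]
  have hTK : ∀ t ∈ T ⊓ K, t • θ = θ := by
    rintro _ ⟨htT, A, rfl⟩
    -- `A i` preserves the line
    have hA : ∀ i, ent (A i) 1 0 = 0 := by
      intro i
      obtain ⟨σ, hσ⟩ := h.line _ htT
      obtain ⟨w, hw⟩ := h.surj fun _ => ![1, 0]
      obtain ⟨j, rfl⟩ := σ.surjective i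
      have h1 := (hσ w j).2 (by rw [hw]; rfl)
      rw [h.L_e, ap_one', hw] at h1
      simpa using h1
    obtain ⟨n, hn⟩ := two ⟨_, htT⟩
    have hn' : h.L (A ^ 2 ^ n) = h.L 1 := by
      rw [map_pow, map_one]
      exact congrArg Subtype.val hn
    have hAn := h.L_inj hn'
    have e1 : A = fun i => up (ent (A i) 0 1) := by
      funext i
      exact eq_up (hA i) (by
        have := congrFun hAn i
        rwa [Pi.pow_apply] at this)
    rw [e1]
    exact hU _
  have hfix : ∀ w : W, (∀ t ∈ T, t • w = w) → ∀ x ∈ K, x • w = w := by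
    intro w hw x hx
    exact h.base.fix x (hKH hx) w (fix w hw)
  have hfin := Tools.OddFix.odd_fix (G := W ≃ₗ[ZMod 2] W) (W := W) addself two
    (fun t ht x hx => hKn t (h.TH ht) x hx) hodd hfix θ hTK
  funext i
  have h1 := hfin (h.L fun _ => lo 1) ⟨_, rfl⟩
  change h.L (fun _ => lo 1) θ = θ at h1
  have h2 := h.L_e (fun _ => lo 1) θ i
  rw [h1] at h2
  have h3 := congrFun h2 1
  rw [ap_one', lo_10, lo_11] at h3
  apply ext2
  · change e θ i 0 = 0
    linear_combination -h3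
  · exact hθ1 i

/-- `|F| > 2` -/
theorem false_big [Finite W] [Fintype F] [DecidableEq F] [CharP F 2] (hν : ∃ ν : F, ν ≠ 0 ∧ ν ≠ 1) (hk : 0 < k)
    (two : IsPGroup 2 T) (syl : ¬ 2 ∣ T.relIndex H) (fix : ∀ w, (∀ t ∈ T, t w = w) → w ∈ R)
    (gen : ∀ U : Submodule (ZMod 2) W, (∀ r ∈ R, r ∈ U) →
      (∀ w, (∀ t ∈ T, t w + w ∈ R) → ∀ x ∈ H, x w ∈ U) → U = ⊤) : False := by
  let U : Submodule (ZMod 2) W :=
    { carrier := {w | e w = 0}
      zero_mem' := map_zero e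
      add_mem' := by
        intro a b ha hb
        change e (a + b) = 0
        change e a = 0 at ha
        change e b = 0 at hb
        rw [map_add, ha, hb, add_zero]
      smul_mem' := by
        intro c w hw
        rcases z2 c with rfl | rfl
        · rw [zero_smul]; exact map_zero e
        · rw [one_smul]; exact hw }
  have hUt := gen U h.eR fun w hw x hx => h.kinv x hx w (h.e_zero hν two syl fix hw)
  obtain ⟨w, hw⟩ := h.surj fun _ => ![1, 0]
  have h4 : w ∈ U := by rw [hUt]; exact Submodule.mem_top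
  have h5 : e w = 0 := h4
  rw [hw] at h5
  have h6 := congrFun (congrFun h5 ⟨0, hk⟩) 0
  exact one_ne_zero h6

/-- `|F| = 2` -/
theorem false_two [Finite W] [CharP F 2] (hF : ∀ x : F, x = 0 ∨ x = 1) (hk : 0 < k)
    (two : IsPGroup 2 T) (fix : ∀ w, (∀ t ∈ T, t w = w) → w ∈ R) : False := by
  classical
  have hfin : Finite (W ≃ₗ[ZMod 2] W) := DFunLike.finite _
  set K : Subgroup (W ≃ₗ[ZMod 2] W) :=
    (Subgroup.pi Set.univ (fun _ : Fin k => zpowers (c3 F))).map h.L with hKd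
  have hKH : K ≤ H := by
    rintro _ ⟨A, -, rfl⟩
    exact h.L_mem A
  have hcube : ∀ x ∈ K, x ^ 3 = 1 := by
    rintro _ ⟨A, hA, rfl⟩
    rw [← map_pow]
    have : A ^ 3 = 1 := by
      funext i
      rw [Pi.pow_apply]
      exact cube_of_mem (hA i (Set.mem_univ i))
    rw [this, map_one]
  have hKn : ∀ g ∈ H, ∀ x ∈ K, g * x * g⁻¹ ∈ K := by
    rintro g hg x hx
    have h3 := hcube x hx
    obtain ⟨A, hA, rfl⟩ := hx
    obtain ⟨B, hB⟩ := h.conj_L hg A
    refine ⟨B, fun i _ => ?_, hB.symm⟩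
    have h4 : (g * h.L A * g⁻¹) ^ 3 = 1 := by
      rw [conj_pow, h3, mul_one, mul_inv_cancel]
    rw [hB, ← map_pow, ← map_one h.L] at h4
    have h5 := congrFun (h.L_inj h4) i
    rw [Pi.pow_apply, Pi.one_apply, pow_succ, pow_two] at h5
    exact cube_mem hF h5
  have hK3 : IsPGroup 3 K := fun x => ⟨1, Subtype.ext (by
    change (x : W ≃ₗ[ZMod 2] W) ^ 3 ^ 1 = 1
    rw [pow_one]; exact hcube x x.2)⟩
  have hodd : ¬ 2 ∣ (T ⊓ K).relIndex K := by
    intro h2
    obtain ⟨n, hn⟩ := IsPGroup.iff_card.1 hK3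
    have h3 : (T ⊓ K).relIndex K ∣ Nat.card K := Subgroup.relIndex_dvd_card _ _
    rw [hn] at h3
    have h4 := Nat.Prime.dvd_of_dvd_pow Nat.prime_two (h2.trans h3)
    omega
  have hTK : ∀ w : W, ∀ t ∈ T ⊓ K, t • w = w := by
    rintro w t ⟨htT, htK⟩
    obtain ⟨n, hn⟩ := two ⟨t, htT⟩
    have h2 : t ^ 2 ^ n = 1 := congrArg Subtype.val hn
    have h3 := hcube t htK
    have h4 : orderOf t ∣ 2 ^ n := orderOf_dvd_of_pow_eq_one h2
    have h5 : orderOf t ∣ 3 := orderOf_dvd_of_pow_eq_one h3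
    have h6 : orderOf t ∣ Nat.gcd (2 ^ n) 3 := Nat.dvd_gcd h4 h5
    have h7 : Nat.gcd (2 ^ n) 3 = 1 := Nat.Coprime.pow_left n (by norm_num)
    rw [h7, Nat.dvd_one, orderOf_eq_one_iff] at h6
    rw [h6]
    rfl
  have hfix : ∀ w : W, (∀ t ∈ T, t • w = w) → ∀ x ∈ K, x • w = w := by
    intro w hw x hx
    exact h.base.fix x (hKH hx) w (fix w hw)
  obtain ⟨w, hw⟩ := h.surj fun _ => ![1, 0]
  have h1 := Tools.OddFix.odd_fix (G := W ≃ₗ[ZMod 2] W) (W := W) addself two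
    (fun t ht x hx => hKn t (h.TH ht) x hx) hodd hfix w (hTK w) (h.L fun _ => c3 F)
    ⟨_, fun i _ => mem_zpowers _, rfl⟩
  change h.L (fun _ => c3 F) w = w at h1
  have h2 := h.L_e (fun _ => c3 F) w ⟨0, hk⟩
  rw [h1, hw] at h2
  have h3 := congrFun h2 0
  rw [ap_zero', ent_c3.1, ent_c3.2.1] at h3
  simp at h3

end NatW

end Cfsg.Agent.Omega.FOne.ActR
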